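import Mathlib

/-!
# Sakuma's theorem: the multiplication table

Pure linear algebra: from the products known a priori, the resurrection equations determine
the products `a · o` and `s · s`.
-/

set_option autoImplicit false

namespace CfsgLib.Axial.Sakuma

variable {V : Type*} [AddCommGroup V] [Module ℝ V]

/-- The a priori known part of the multiplication table; `b, c` are the neighbours of `a` and
`p, q` the next ones. -/
structure Table (mul : V →ₗ[ℝ] V →ₗ[ℝ] V) (a b c p q s e o : V) (l m : ℝ) : Prop where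
  comm : ∀ u v : V, mul u v = mul v u
  aa : mul a a = a
  bb : mul b b = b
  cc : mul c c = c
  ab : mul a b = s + (1 / 32 : ℝ) • (a + b)
  ac : mul a c = s + (1 / 32 : ℝ) • (a + c)
  bc : mul b c = o + (1 / 32 : ℝ) • (b + c)
  ap : mul a p = e + (1 / 32 : ℝ) • (a + p)
  aq : mul a q = e + (1 / 32 : ℝ) • (a + q)
  as' : mul a s = (3 / 4 * l - 25 / 1024) • a + (7 / 32 : ℝ) • s + (7 / 2048 : ℝ) • (b + c)
  bs : mul b s = (3 / 4 * l - 25 / 1024) • b + (7 / 32 : ℝ) • s + (7 / 2048 : ℝ) • (a + p)
  cs : mul c s = (3 / 4 * l - 25 / 1024) • c + (7 / 32 : ℝ) • s + (7 / 2048 : ℝ) • (a + q)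
  ae : mul a e = (3 / 4 * m - 25 / 1024) • a + (7 / 32 : ℝ) • e + (7 / 2048 : ℝ) • (p + q)

/-- The quarter part of `(b + c) / 2`. -/
noncomputable def quarterPart (a b c s : V) (l : ℝ) : V :=
  (4 : ℝ) • s + (1 / 8 - 4 * l) • a + (1 / 16 : ℝ) • (b + c)

/-- The part of `(b + c) / 2` orthogonal to `a`. -/
noncomputable def restPart (a b c : V) (l : ℝ) : V := (1 / 2 : ℝ) • (b + c) - l • a

/-- The square of the length of the quarter part. -/
noncomputable def quarterNorm (l n : ℝ) : ℝ := 4 * l - 4 * l ^ 2 - (1 - n) / 16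

/-- The product `a · o`. -/
noncomputable def axisOdd (a b c p q s e : V) (l n : ℝ) : V :=
  (l / 6 - 19 / 3072) • (b + c) + (7 / 6144 : ℝ) • (p + q) +
    (-32 / 3 * l ^ 2 + 5 / 3 * l - n / 24 - 127 / 3072) • a + (32 / 3 * l - 19 / 48) • s +
    (7 / 96 : ℝ) • e

/-- The square of `s`. -/
noncomputable def sigSquare (a b c p q s e o : V) (l n : ℝ) : V :=
  (49 / 768 * l - 245 / 196608) • (b + c) + (49 / 196608 : ℝ) • (p + q) +
    (7 / 6 * l ^ 2 - 7 / 384 * l + 7 / 1536 * n - 7 / 98304) • a +
    (-5 / 12 * l - 13 / 1536) • s + (-7 / 1536 : ℝ) • e + (7 / 2048 : ℝ) • o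

variable {mul : V →ₗ[ℝ] V →ₗ[ℝ] V} {a b c p q s e o : V} {l m n : ℝ}

theorem Table.axis_odd (T : Table mul a b c p q s e o l m)
    (h : mul a (mul (restPart a b c l) (restPart a b c l)) =
      (2 : ℝ) • mul a (mul (quarterPart a b c s l) (restPart a b c l)) -
        (quarterNorm l n / 4) • a) :
    mul a o = axisOdd a b c p q s e l n := by
  simp only [restPart, quarterPart, quarterNorm, map_add, map_sub, map_smul, LinearMap.add_apply,
    LinearMap.sub_apply, LinearMap.smul_apply, T.comm b a, T.comm c a, T.comm c b, T.comm s a,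
    T.comm s b, T.comm s c, T.aa, T.bb, T.cc, T.ab, T.ac, T.bc, T.ap, T.aq, T.as', T.bs, T.cs] at h
  simp only [axisOdd]
  linear_combination (norm := module) (8 / 3 : ℝ) • h

theorem Table.sig_square (T : Table mul a b c p q s e o l m)
    (hX : mul a o = axisOdd a b c p q s e l n)
    (h : mul (quarterPart a b c s l) (quarterPart a b c s l) =
      mul (quarterPart a b c s l) (restPart a b c l) -
        ((4 : ℝ) • mul a (mul (quarterPart a b c s l) (restPart a b c l)) -
          quarterNorm l n • a)) :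
    mul s s = sigSquare a b c p q s e o l n := by
  simp only [restPart, quarterPart, quarterNorm, map_add, map_sub, map_smul, LinearMap.add_apply,
    LinearMap.sub_apply, LinearMap.smul_apply, T.comm b a, T.comm c a, T.comm c b, T.comm s a,
    T.comm s b, T.comm s c, T.aa, T.bb, T.cc, T.ab, T.ac, T.bc, T.ap, T.aq, T.as', T.bs, T.cs,
    hX, axisOdd] at h
  simp only [sigSquare]
  linear_combination (norm := module) (1 / 16 : ℝ) • h

theorem Table.scalar_eq (T : Table mul a b c p q s e o l m)
    (hX : mul a o = axisOdd a b c p q s e l n)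
    (hY : mul s s = sigSquare a b c p q s e o l n)
    (h : mul a (mul (quarterPart a b c s l) (quarterPart a b c s l)) =
      (quarterNorm l n / 4) • a) :
    (7 / 128 * (n - m) : ℝ) • a = 0 := by
  simp only [quarterPart, quarterNorm, map_add, map_sub, map_smul, LinearMap.add_apply,
    LinearMap.sub_apply, LinearMap.smul_apply, T.comm b a, T.comm c a, T.comm c b, T.comm s a,
    T.comm s b, T.comm s c, T.aa, T.bb, T.cc, T.ab, T.ac, T.bc, T.ap, T.aq, T.as', T.bs, T.cs,
    T.ae, hX, hY, axisOdd, sigSquare] at h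
  linear_combination (norm := module) h

end CfsgLib.Axial.Sakuma
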