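import Cfsg.Prelude.Def_AxialAlgebras

/-!
# One Majorana axis

Consequences of the definition of a Majorana pair used in the proof of Sakuma's theorem:
the quadratic relation for the adjoint map, the fixed vectors `sig`, the parts of a fixed vector.
-/

set_option autoImplicit false

namespace CfsgLib.Axial.Sakuma

open Cfsg.Axial

variable {V : Type*} [AddCommGroup V] [Module ℝ V] {mul : V →ₗ[ℝ] V →ₗ[ℝ] V}
  {B : LinearMap.BilinForm ℝ V} {a : V} {τ : V ≃ₗ[ℝ] V}

/-- Standing hypotheses on an axis: a Majorana pair with axial vector of length one. -/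
structure Ax (mul : V →ₗ[ℝ] V →ₗ[ℝ] V) (B : LinearMap.BilinForm ℝ V) (τ : V ≃ₗ[ℝ] V) (a : V) :
    Prop where
  pair : IsMajoranaPair mul B τ a
  norm : B a a = 1

/-- The vector `σ`. -/
noncomputable def sig (mul : V →ₗ[ℝ] V →ₗ[ℝ] V) (u v : V) : V :=
  mul u v - (1 / 32 : ℝ) • (u + v)

theorem map_mul (h : Ax mul B τ a) (u v : V) : τ (mul u v) = mul (τ u) (τ v) := h.pair.1 u v

theorem map_form (h : Ax mul B τ a) (u v : V) : B (τ u) (τ v) = B u v := h.pair.2.1 u v

theorem idem (h : Ax mul B τ a) : mul a a = a := h.pair.2.2.1.1.2.1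

theorem mem_one {v : V} (h : Ax mul B τ a) (hv : v ∈ eigen mul a 1) : ∃ t : ℝ, t • a = v := by
  rw [h.pair.2.2.1.2] at hv
  exact Submodule.mem_span_singleton.1 hv

theorem ext_eigen {W : Type*} [AddCommGroup W] [Module ℝ W] (h : Ax mul B τ a) {f g : V →ₗ[ℝ] W}
    (h1 : f a = g a) (h0 : ∀ v : V, mul a v = 0 → f v = g v)
    (h4 : ∀ v : V, mul a v = (1 / 4 : ℝ) • v → f v = g v)
    (h32 : ∀ v : V, mul a v = (1 / 32 : ℝ) • v → f v = g v) (v : V) : f v = g v := by
  have hle : (⊤ : Submodule ℝ V) ≤ LinearMap.ker (f - g) := by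
    rw [← h.pair.2.2.1.1.2.2.1]
    refine iSup₂_le fun c hc w hw => ?_
    simp only [LinearMap.mem_ker, LinearMap.sub_apply, sub_eq_zero]
    have hw' : mul a w = c • w := Module.End.mem_eigenspace_iff.1 hw
    simp only [majoranaSpectrum, Set.mem_insert_iff, Set.mem_singleton_iff] at hc
    rcases hc with rfl | rfl | rfl | rfl
    · obtain ⟨t, rfl⟩ := mem_one h hw
      rw [map_smul, map_smul, h1]
    · exact h0 w (by simpa using hw')
    · exact h4 w hw'
    · exact h32 w hw'
  simpa [sub_eq_zero] using hle (Submodule.mem_top (x := v))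

theorem fix_axis (h : Ax mul B τ a) : τ a = a := by
  refine h.pair.2.2.2.1 a ?_
  refine Submodule.mem_iSup_of_mem (1 : ℝ) (Submodule.mem_iSup_of_mem (by simp) ?_)
  rw [eigen, Module.End.mem_eigenspace_iff, one_smul]
  exact idem h

theorem fix_of_mem {v : V} (h : Ax mul B τ a) {c : ℝ} (hc : c ∈ ({1, 0, 1 / 4} : Set ℝ))
    (hv : mul a v = c • v) : τ v = v :=
  h.pair.2.2.2.1 v
    (Submodule.mem_iSup_of_mem c
      (Submodule.mem_iSup_of_mem hc (Module.End.mem_eigenspace_iff.2 hv)))

theorem neg_of_mem {v : V} (h : Ax mul B τ a) (hv : mul a v = (1 / 32 : ℝ) • v) : τ v = -v :=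
  h.pair.2.2.2.2 v (Module.End.mem_eigenspace_iff.2 hv)

theorem invol (h : Ax mul B τ a) (v : V) : τ (τ v) = v := by
  refine ext_eigen h (f := (τ : V →ₗ[ℝ] V).comp (τ : V →ₗ[ℝ] V)) (g := LinearMap.id) ?_ ?_ ?_ ?_ v
  · simp [fix_axis h]
  · intro w hw
    simp [fix_of_mem h (c := 0) (by simp) (by simpa using hw)]
  · intro w hw
    simp [fix_of_mem h (c := 1 / 4) (by simp) hw]
  · intro w hw
    simp [neg_of_mem h hw]

section Ambient

variable (hV : IsMajoranaAmbient mul B)
include hV

theorem comm (u v : V) : mul u v = mul v u := hV.1 u v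

theorem symm (u v : V) : B u v = B v u := hV.2.1 u v

theorem assoc (u v w : V) : B u (mul v w) = B (mul u v) w := hV.2.2.2.1 u v w

theorem assoc' (u v w : V) : B (mul u v) w = B v (mul u w) := by
  rw [comm hV u v, assoc hV]

theorem sig_comm (u v : V) : sig mul u v = sig mul v u := by
  rw [sig, sig, comm hV u v, add_comm u v]

/-- Two vectors of length one with inner product one are equal. -/
theorem eq_of_form {u v : V} (hu : B u u = 1) (hv : B v v = 1) (huv : B u v = 1) : u = v := by
  by_contra hne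
  have hpos := hV.2.2.1 (u - v) (sub_ne_zero.2 hne)
  simp only [map_sub, LinearMap.sub_apply, hu, hv, huv, symm hV v u] at hpos
  linarith

theorem form_eigen (h : Ax mul B τ a) {c : ℝ} {v : V} (hv : mul a v = c • v) (hc : c ≠ 1) :
    B a v = 0 := by
  have h1 : B a v = c * B a v := by
    conv_lhs => rw [← idem h]
    rw [assoc' hV, hv, map_smul, smul_eq_mul]
  have h2 : (c - 1) * B a v = 0 := by linarith
  exact (mul_eq_zero.1 h2).resolve_left (sub_ne_zero.2 hc)

/-- The quadratic relation for the adjoint map. -/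
theorem mul_mul (h : Ax mul B τ a) (v : V) :
    mul a (mul a v) =
      (1 / 4 : ℝ) • mul a v + (3 / 4 * B a v : ℝ) • a - (7 / 2048 : ℝ) • (v - τ v) := by
  have key := ext_eigen h (f := (mul a).comp (mul a))
    (g := (1 / 4 : ℝ) • mul a + ((3 / 4 : ℝ) • B a).smulRight a -
      (7 / 2048 : ℝ) • (LinearMap.id - (τ : V →ₗ[ℝ] V))) ?_ ?_ ?_ ?_ v
  · simpa using key
  · simp [idem h, h.norm, fix_axis h]
    module
  · intro w hw
    simp [hw, fix_of_mem h (c := 0) (by simp) (by simpa using hw),
      form_eigen hV h (c := 0) (by simpa using hw) (by norm_num)]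
  · intro w hw
    simp [hw, fix_of_mem h (c := 1 / 4) (by simp) hw, form_eigen hV h hw (by norm_num)]
  · intro w hw
    simp [hw, neg_of_mem h hw, form_eigen hV h hw (by norm_num)]
    module

omit hV in
theorem mul_sub (h : Ax mul B τ a) (v : V) : mul a (v - τ v) = (1 / 32 : ℝ) • (v - τ v) := by
  have key := ext_eigen h (f := (mul a).comp (LinearMap.id - (τ : V →ₗ[ℝ] V)))
    (g := (1 / 32 : ℝ) • (LinearMap.id - (τ : V →ₗ[ℝ] V))) ?_ ?_ ?_ ?_ v
  · simpa using key
  · simp [fix_axis h]
  · intro w hw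
    simp [fix_of_mem h (c := 0) (by simp) (by simpa using hw)]
  · intro w hw
    simp [fix_of_mem h (c := 1 / 4) (by simp) hw]
  · intro w hw
    simp [hw, neg_of_mem h hw]

omit hV in
theorem fix_sig (h : Ax mul B τ a) (v : V) : τ (sig mul a v) = sig mul a v := by
  have h2 := mul_sub h v
  simp only [map_sub] at h2
  simp only [sig, map_sub, map_smul, map_add, map_mul h, fix_axis h]
  linear_combination (norm := module) -h2

theorem form_fix (h : Ax mul B τ a) (v : V) : B a (τ v) = B a v := by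
  conv_lhs => rw [← fix_axis h]
  exact map_form h a v

theorem mul_sig (h : Ax mul B τ a) (v : V) :
    mul a (sig mul a v) = (3 / 4 * B a v - 25 / 1024 : ℝ) • a + (7 / 32 : ℝ) • sig mul a v +
      (7 / 2048 : ℝ) • (v + τ v) := by
  simp only [sig, map_sub, map_smul, map_add, idem h, mul_mul hV h v]
  module

theorem form_sig (h : Ax mul B τ a) (v : V) : B a (sig mul a v) = (31 * B a v - 1) / 32 := by
  have h1 : B a (mul a v) = B a v := by rw [assoc hV, idem h]
  simp only [sig, map_sub, map_smul, map_add, smul_eq_mul, h1, h.norm]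
  ring

/-- The quarter part of a fixed vector. -/
theorem mul_part_quarter (h : Ax mul B τ a) {x : V} (hx : τ x = x) :
    mul a ((4 : ℝ) • (mul a x - B a x • a)) =
      (1 / 4 : ℝ) • ((4 : ℝ) • (mul a x - B a x • a)) := by
  simp only [map_sub, map_smul, idem h, mul_mul hV h x, hx]
  module

/-- The zero part of a fixed vector. -/
theorem mul_part_zero (h : Ax mul B τ a) {x : V} (hx : τ x = x) :
    mul a (x - B a x • a - (4 : ℝ) • (mul a x - B a x • a)) = 0 := by
  simp only [map_sub, map_smul, idem h, mul_mul hV h x, hx]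
  module

omit hV in
theorem law_quarter_zero (h : Ax mul B τ a) {u v : V} (hu : mul a u = 0)
    (hv : mul a v = (1 / 4 : ℝ) • v) : mul a (mul u v) = (1 / 4 : ℝ) • mul u v := by
  have hm := h.pair.2.2.1.1.2.2.2 0 (by simp [majoranaSpectrum]) (1 / 4)
    (by simp [majoranaSpectrum]) u (Module.End.mem_eigenspace_iff.2 (by simpa using hu)) v
    (Module.End.mem_eigenspace_iff.2 hv)
  have hl : monsterLaw (1 / 4 : ℝ) (1 / 32) 0 (1 / 4) = {1 / 4} := by norm_num [monsterLaw]
  rw [hl, eigenSum, iSup_singleton] at hm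
  exact Module.End.mem_eigenspace_iff.1 hm

omit hV in
theorem law_zero_zero (h : Ax mul B τ a) {u v : V} (hu : mul a u = 0)
    (hv : mul a v = 0) : mul a (mul u v) = 0 := by
  have hm := h.pair.2.2.1.1.2.2.2 0 (by simp [majoranaSpectrum]) 0
    (by simp [majoranaSpectrum]) u (Module.End.mem_eigenspace_iff.2 (by simpa using hu)) v
    (Module.End.mem_eigenspace_iff.2 (by simpa using hv))
  have hl : monsterLaw (1 / 4 : ℝ) (1 / 32) 0 0 = {0} := by norm_num [monsterLaw]
  rw [hl, eigenSum, iSup_singleton] at hm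
  simpa using Module.End.mem_eigenspace_iff.1 hm

theorem law_quarter_quarter (h : Ax mul B τ a) {u v : V} (hu : mul a u = (1 / 4 : ℝ) • u)
    (hv : mul a v = (1 / 4 : ℝ) • v) : mul a (mul u v) = (1 / 4 * B u v : ℝ) • a := by
  have hm := h.pair.2.2.1.1.2.2.2 (1 / 4) (by simp [majoranaSpectrum]) (1 / 4)
    (by simp [majoranaSpectrum]) u (Module.End.mem_eigenspace_iff.2 hu) v
    (Module.End.mem_eigenspace_iff.2 hv)
  have hl : monsterLaw (1 / 4 : ℝ) (1 / 32) (1 / 4) (1 / 4) = {1, 0} := by norm_num [monsterLaw]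
  rw [hl] at hm
  have hle : eigenSum mul a ({1, 0} : Set ℝ) ≤ LinearMap.ker (mul a - (B a).smulRight a) := by
    refine iSup₂_le fun c hc w hw => ?_
    have hw' : mul a w = c • w := Module.End.mem_eigenspace_iff.1 hw
    simp only [Set.mem_insert_iff, Set.mem_singleton_iff] at hc
    simp only [LinearMap.mem_ker, LinearMap.sub_apply, LinearMap.smulRight_apply, sub_eq_zero]
    rcases hc with rfl | rfl
    · obtain ⟨t, rfl⟩ := mem_one h hw
      simp [idem h, h.norm]
    · simp [hw', form_eigen hV h hw' (by norm_num)]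
  have h2 := hle hm
  simp only [LinearMap.mem_ker, LinearMap.sub_apply, LinearMap.smulRight_apply, sub_eq_zero] at h2
  rw [h2]
  congr 1
  rw [assoc hV, hu, map_smul, LinearMap.smul_apply, smul_eq_mul]

end Ambient

end CfsgLib.Axial.Sakuma
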