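import Cfsg.Agent.Lib.Axial.Sakuma.Algebra

/-!
# Sakuma's theorem: inner products and the two polynomial equations
-/

set_option autoImplicit false

namespace CfsgLib.Axial.Sakuma

/-- The inner product of axes at distance three. -/
noncomputable def dist3 (l m : ℝ) : ℝ :=
  -32768 / 7 * l ^ 3 + 36864 / 7 * l ^ 2 - 1920 / 7 * l * m - 2169 / 7 * l - 33 / 7 * m + 33 / 7

/-- The inner product of axes at distance four. -/
noncomputable def dist4 (l m : ℝ) : ℝ :=
  8388608 / 7 * l ^ 4 - 9601024 / 7 * l ^ 3 + 65536 * l ^ 2 * m + 110592 * l ^ 2 -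
    640 / 7 * l * m - 19840 / 7 * l - 128 / 7 * m ^ 2 - 3 * m + 156 / 7

/-- The length squared of `σ`. -/
noncomputable def sigNorm (l m : ℝ) : ℝ :=
  3 / 4 * l ^ 2 + 65 / 512 * l + 7 / 2048 * m - 3 / 2048

/-- The inner product of `σ` with the two vectors `σ` of distance two. -/
noncomputable def sigCross (l m : ℝ) : ℝ :=
  -16 * l ^ 3 + 18 * l ^ 2 - 3 / 16 * l * m - 463 / 512 * l - 83 / 2048 * m + 23 / 2048

/-- The inner product of the even and odd `σ` of distance two. -/
noncomputable def evenOdd (l m : ℝ) : ℝ :=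
  4096 / 7 * l ^ 4 - 656 * l ^ 3 + 128 / 7 * l ^ 2 * m + 366 / 7 * l ^ 2 + 277 / 112 * l * m -
    335 / 256 * l - 1 / 16 * m ^ 2 + 761 / 14336 * m + 135 / 14336

/-- The first polynomial relation. -/
def polyOne (l m : ℝ) : ℝ :=
  2097152 * l ^ 4 - 2326528 * l ^ 3 + 40960 * l ^ 2 * m + 184320 * l ^ 2 + 8896 * l * m -
    4800 * l + 128 * m ^ 2 - 167 * m + 39

/-- The second polynomial relation. -/
def polyTwo (l m : ℝ) : ℝ :=
  14495514624 * l ^ 5 - 16240345088 * l ^ 4 + 377487360 * l ^ 3 * m + 1369735168 * l ^ 3 +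
    36257792 * l ^ 2 * m - 39997440 * l ^ 2 + 1253376 * l * m ^ 2 - 338560 * l * m + 432768 * l +
    10432 * m ^ 2 - 9223 * m - 1209

variable {V : Type*} [AddCommGroup V] [Module ℝ V]

/-- The Gram matrix of the eight spanning vectors. -/
structure Gram (B : LinearMap.BilinForm ℝ V) (a b c p q s e o : V) (l m : ℝ) : Prop where
  symm : ∀ u v : V, B u v = B v u
  aa' : B a a = 1
  bb' : B b b = 1
  cc' : B c c = 1
  pp' : B p p = 1
  qq' : B q q = 1
  ab' : B a b = l
  ac' : B a c = l
  bp' : B b p = l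
  cq' : B c q = l
  ap' : B a p = m
  aq' : B a q = m
  bc' : B b c = m
  bq' : B b q = dist3 l m
  cp' : B c p = dist3 l m
  pq' : B p q = dist4 l m
  as' : B a s = (31 * l - 1) / 32
  bs' : B b s = (31 * l - 1) / 32
  cs' : B c s = (31 * l - 1) / 32
  ps' : B p s = (31 * l - 1) / 32
  qs' : B q s = (31 * l - 1) / 32
  ae' : B a e = (31 * m - 1) / 32
  ao' : B a o = (30 * l + m - 1) / 32
  pe' : B p e = (31 * m - 1) / 32
  po' : B p o = (30 * l + m - 1) / 32
  qe' : B q e = (31 * m - 1) / 32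
  qo' : B q o = (30 * l + m - 1) / 32
  be' : B b e = (30 * l + m - 1) / 32
  bo' : B b o = (31 * m - 1) / 32
  ce' : B c e = (30 * l + m - 1) / 32
  co' : B c o = (31 * m - 1) / 32
  ss' : B s s = sigNorm l m
  se' : B s e = sigCross l m
  so' : B s o = sigCross l m
  ee' : B e e = sigNorm m (dist4 l m)
  oo' : B o o = sigNorm m (dist4 l m)
  eo' : B e o = evenOdd l m

/-- The next axis as a combination of the eight spanning vectors. -/
noncomputable def nextAxis (a b c p q e o : V) (l m : ℝ) : V :=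
  q + (256 * l - 6) • (c - p) +
    (32768 / 7 * l ^ 2 - 2304 / 7 * l + 128 / 7 * m + 33 / 7) • (a - b) - (32 : ℝ) • (e - o)

variable {mul : V →ₗ[ℝ] V →ₗ[ℝ] V} {B : LinearMap.BilinForm ℝ V} {a b c p q s e o : V}
  {l m : ℝ}

theorem Gram.poly_one (G : Gram B a b c p q s e o l m)
    (h : B (nextAxis a b c p q e o l m) (nextAxis a b c p q e o l m) = 1) : polyOne l m = 0 := by
  simp only [nextAxis, map_add, map_sub, map_smul, LinearMap.add_apply, LinearMap.sub_apply,
    LinearMap.smul_apply, smul_eq_mul,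
    G.symm b a, G.symm c a, G.symm p b, G.symm q c, G.symm p a, G.symm q a,
    G.symm c b, G.symm q b, G.symm p c, G.symm q p, G.symm s a, G.symm s b,
    G.symm s c, G.symm s p, G.symm s q, G.symm e a, G.symm o a, G.symm e p,
    G.symm o p, G.symm e q, G.symm o q, G.symm e b, G.symm o b, G.symm e c,
    G.symm o c, G.symm e s, G.symm o s, G.symm o e, G.aa', G.bb',
    G.cc', G.pp', G.qq', G.ab', G.ac', G.bp',
    G.cq', G.ap', G.aq', G.bc', G.bq', G.cp',
    G.pq', G.as', G.bs', G.cs', G.ps', G.qs',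
    G.ae', G.ao', G.pe', G.po', G.qe', G.qo',
    G.be', G.bo', G.ce', G.co', G.ss', G.se',
    G.so', G.ee', G.oo', G.eo'] at h
  simp only [dist3, dist4, sigNorm, evenOdd] at h
  simp only [polyOne]
  linear_combination (7 / 24 : ℝ) * h

theorem Gram.poly_two (G : Gram B a b c p q s e o l m) (T : Table mul a b c p q s e o l m)
    (hX : mul a o = axisOdd a b c p q s e l m)
    (h : B (mul a (nextAxis a b c p q e o l m)) (nextAxis a b c p q e o l m) = dist3 l m) :
    polyTwo l m = 0 := by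
  simp only [nextAxis, map_add, map_sub, map_smul, T.aa, T.ab, T.ac, T.ap, T.aq, T.ae, hX,
    axisOdd, LinearMap.add_apply, LinearMap.sub_apply, LinearMap.smul_apply, smul_eq_mul,
    G.symm b a, G.symm c a, G.symm p b, G.symm q c, G.symm p a, G.symm q a,
    G.symm c b, G.symm q b, G.symm p c, G.symm q p, G.symm s a, G.symm s b,
    G.symm s c, G.symm s p, G.symm s q, G.symm e a, G.symm o a, G.symm e p,
    G.symm o p, G.symm e q, G.symm o q, G.symm e b, G.symm o b, G.symm e c,
    G.symm o c, G.symm e s, G.symm o s, G.symm o e, G.aa', G.bb',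
    G.cc', G.pp', G.qq', G.ab', G.ac', G.bp',
    G.cq', G.ap', G.aq', G.bc', G.bq', G.cp',
    G.pq', G.as', G.bs', G.cs', G.ps', G.qs',
    G.ae', G.ao', G.pe', G.po', G.qe', G.qo',
    G.be', G.bo', G.ce', G.co', G.ss', G.se',
    G.so', G.ee', G.oo', G.eo'] at h
  simp only [dist3, dist4, sigNorm, sigCross, evenOdd] at h
  simp only [polyTwo]
  linear_combination (392 : ℝ) * h

end CfsgLib.Axial.Sakuma
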