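import Cfsg.Agent.Lib.Axial.Sakuma.Pair
import Cfsg.Agent.Lib.Axial.Sakuma.Gram

/-!
# Two Majorana axes: the Gram matrix and the nine possibilities
-/

set_option autoImplicit false

namespace CfsgLib.Axial.Sakuma

open Cfsg.Axial

variable {V : Type*} [AddCommGroup V] [Module ℝ V] {mul : V →ₗ[ℝ] V →ₗ[ℝ] V}
  {B : LinearMap.BilinForm ℝ V} {τ π : V ≃ₗ[ℝ] V} {a b : V}

theorem Two.form_odd (h : Two mul B τ π a b) :
    B a (sig mul b (τ b)) = (30 * B a b + B a (π a) - 1) / 32 := by
  have e1 : B a (mul b (τ b)) = B (τ b) (sig mul a b) + (1 / 32 : ℝ) * (B a b + B a (π a)) := by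
    rw [assoc h.amb, symm h.amb, mul_eq_sig a b, map_add, map_smul, map_add, smul_eq_mul,
      symm h.amb (τ b) a, form_fix h.amb h.left, symm h.amb (τ b) b, h.dist_two_eq]
  have e2 : B (τ b) (sig mul a b) = (31 * B a b - 1) / 32 := by
    rw [← fix_sig h.left b, map_form h.left, sig_comm h.amb a b, form_sig h.amb h.right,
      h.form_comm]
  rw [e2] at e1
  simp only [sig, map_sub, map_smul, map_add, smul_eq_mul, e1, form_fix h.amb h.left]
  ring

theorem Two.form_even (h : Two mul B τ π a b) :
    B b (sig mul a (π a)) = (30 * B a b + B a (π a) - 1) / 32 := by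
  rw [h.swap.form_odd, h.form_comm, h.dist_two_eq]

theorem Two.form_dist_three (h : Two mul B τ π a b) :
    B a (π (τ b)) = dist3 (B a b) (B a (π a)) := by
  rw [h.relation]
  simp only [map_add, map_sub, map_smul, smul_eq_mul, form_fix h.amb h.left, h.left.norm,
    h.form_odd, form_sig h.amb h.left, dist3]
  ring

theorem Two.cross (h : Two mul B τ π a b) :
    B (τ b) (π a) = dist3 (B a b) (B a (π a)) := by
  rw [← h.form_dist_three, symm h.amb, ← map_form h.right a (π (τ b))] at *
  rw [invol h.right]

theorem Two.form_dist_four (h : Two mul B τ π a b) :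
    B (τ b) (π (τ b)) = dist4 (B a b) (B a (π a)) := by
  have e1 : B (τ b) (τ (π a)) = B a b := by
    rw [map_form h.left, ← fix_axis h.right, map_form h.right, fix_axis h.right, h.form_comm]
  have e2 : B (τ b) (τ b) = 1 := by rw [map_form h.left, h.right.norm]
  have e3 : B (τ b) (sig mul a (π a)) = (30 * B a b + B a (π a) - 1) / 32 := by
    rw [← fix_sig h.left (π a), map_form h.left, h.form_even]
  have e4 : B (τ b) (sig mul b (τ b)) = (31 * B a (π a) - 1) / 32 := by
    rw [← h.fix_sig_self, map_form h.left, form_sig h.amb h.right, h.dist_two_eq]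
  have e5 : B (τ b) a = B a b := by rw [symm h.amb, form_fix h.amb h.left]
  have e6 : B (τ b) b = B a (π a) := by rw [symm h.amb, h.dist_two_eq]
  rw [h.relation]
  simp only [map_add, map_sub, map_smul, smul_eq_mul, e1, e2, e3, e4, e5, e6, h.cross, dist3,
    dist4]
  ring

theorem Two.form_dist_four' (h : Two mul B τ π a b) :
    B (π a) (τ (π a)) = dist4 (B a b) (B a (π a)) := by
  rw [h.swap.form_dist_four, h.form_comm, h.dist_two_eq]

theorem form_sig_sig (hV : IsMajoranaAmbient mul B) {μ : V ≃ₗ[ℝ] V} {u v : V}
    (hu : Ax mul B μ u) (hv1 : mul v v = v) (hv2 : B v v = 1) :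
    B (sig mul u v) (sig mul u v) = sigNorm (B u v) (B v (μ v)) := by
  have e1 : B (mul u v) u = B u v := by rw [assoc' hV, symm hV, idem hu]
  have e2 : B (mul u v) v = B u v := by rw [← assoc hV u v v, hv1]
  have e3 : B (mul u v) (mul u v) =
      B u v / 4 + 3 / 4 * B u v ^ 2 - 7 / 2048 * (1 - B v (μ v)) := by
    rw [assoc' hV, mul_mul hV hu v]
    simp only [map_sub, map_add, map_smul, smul_eq_mul, symm hV v (mul u v), e2, symm hV v u, hv2]
    ring
  simp only [sig, map_sub, map_smul, map_add, LinearMap.sub_apply, LinearMap.smul_apply,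
    LinearMap.add_apply, smul_eq_mul, e1, e2, e3, symm hV u (mul u v), symm hV v (mul u v),
    hu.norm, hv2, symm hV v u, sigNorm]
  ring

theorem Two.fix_sig_self' (h : Two mul B τ π a b) :
    π (sig mul a (π a)) = sig mul a (π a) :=
  h.swap.fix_sig_self

theorem Two.form_p_odd (h : Two mul B τ π a b) :
    B (π a) (sig mul b (τ b)) = (30 * B a b + B a (π a) - 1) / 32 := by
  rw [← fix_sig h.right (τ b), map_form h.right, h.form_odd]

theorem Two.form_p_even (h : Two mul B τ π a b) :
    B (π a) (sig mul a (π a)) = (31 * B a (π a) - 1) / 32 := by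
  rw [← h.fix_sig_self', map_form h.right, form_sig h.amb h.left]

theorem Two.form_p_sig (h : Two mul B τ π a b) :
    B (π a) (sig mul a b) = (31 * B a b - 1) / 32 := by
  rw [sig_comm h.amb a b, ← fix_sig h.right a, map_form h.right, sig_comm h.amb b a,
    form_sig h.amb h.left]

theorem Two.form_sig_cross (h : Two mul B τ π a b) :
    B (sig mul a b) (sig mul a (π a)) = sigCross (B a b) (B a (π a)) := by
  have e1 : B (sig mul a b) a = (31 * B a b - 1) / 32 := by
    rw [symm h.amb, form_sig h.amb h.left]
  have e2 : B (sig mul a b) (π a) = (31 * B a b - 1) / 32 := by rw [symm h.amb, h.form_p_sig]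
  have e3 : B b (π a) = B a b := by
    rw [← fix_axis h.right, map_form h.right, h.form_comm, fix_axis h.right]
  have e4 : B (sig mul a b) (mul a (π a)) =
      (3 / 4 * B a b - 25 / 1024) * B a (π a) + 7 / 32 * ((31 * B a b - 1) / 32) +
        7 / 2048 * (B a b + dist3 (B a b) (B a (π a))) := by
    rw [← assoc' h.amb, mul_sig h.amb h.left]
    simp only [map_add, map_smul, LinearMap.add_apply, LinearMap.smul_apply, smul_eq_mul, e2, e3,
      h.cross]
  generalize hs : sig mul a b = s at e1 e2 e4 ⊢
  simp only [sig, map_sub, map_smul, map_add, smul_eq_mul, e1, e2, e4, sigCross, dist3]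
  ring

theorem Two.gram (h : Two mul B τ π a b) :
    Gram B a b (τ b) (π a) (τ (π a)) (sig mul a b) (sig mul a (π a)) (sig mul b (τ b))
      (B a b) (B a (π a)) where
  symm := symm h.amb
  aa' := h.left.norm
  bb' := h.right.norm
  cc' := by rw [map_form h.left, h.right.norm]
  pp' := by rw [map_form h.right, h.left.norm]
  qq' := by rw [map_form h.left, map_form h.right, h.left.norm]
  ab' := rfl
  ac' := form_fix h.amb h.left b
  bp' := by rw [← fix_axis h.right, map_form h.right, h.form_comm, fix_axis h.right]
  cq' := by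
    rw [map_form h.left, ← fix_axis h.right, map_form h.right, h.form_comm, fix_axis h.right]
  ap' := rfl
  aq' := form_fix h.amb h.left (π a)
  bc' := h.dist_two_eq
  bq' := by rw [← h.cross, ← map_form h.left, invol h.left]
  cp' := h.cross
  pq' := h.form_dist_four'
  as' := form_sig h.amb h.left b
  bs' := by rw [sig_comm h.amb, form_sig h.amb h.right, h.form_comm]
  cs' := by
    rw [← fix_sig h.left b, map_form h.left, sig_comm h.amb, form_sig h.amb h.right, h.form_comm]
  ps' := h.form_p_sig
  qs' := by rw [← fix_sig h.left b, map_form h.left, h.form_p_sig]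
  ae' := form_sig h.amb h.left (π a)
  ao' := h.form_odd
  pe' := h.form_p_even
  po' := h.form_p_odd
  qe' := by rw [← fix_sig h.left (π a), map_form h.left, h.form_p_even]
  qo' := by rw [← h.fix_sig_self, map_form h.left, h.form_p_odd]
  be' := h.form_even
  bo' := by rw [form_sig h.amb h.right, h.dist_two_eq]
  ce' := by rw [← fix_sig h.left (π a), map_form h.left, h.form_even]
  co' := by rw [← h.fix_sig_self, map_form h.left, form_sig h.amb h.right, h.dist_two_eq]
  ss' := by rw [form_sig_sig h.amb h.left (idem h.right) h.right.norm, h.dist_two_eq]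
  se' := h.form_sig_cross
  so' := by
    rw [sig_comm h.amb a b, h.swap.form_sig_cross, h.form_comm, h.dist_two_eq]
  ee' := by
    rw [form_sig_sig h.amb h.left (by rw [← map_mul h.right, idem h.left])
      (by rw [map_form h.right, h.left.norm]), h.form_dist_four']
  oo' := by
    rw [form_sig_sig h.amb h.right (by rw [← map_mul h.left, idem h.right])
      (by rw [map_form h.left, h.right.norm]), h.form_dist_four, h.dist_two_eq]
  eo' := by
    have e1 : B (mul a (π a)) (sig mul b (τ b)) = B (π a) (mul a (sig mul b (τ b))) :=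
      assoc' h.amb _ _ _
    rw [h.axis_odd] at e1
    have hcp : B (π a) (τ b) = dist3 (B a b) (B a (π a)) := by rw [symm h.amb, h.cross]
    have hpb : B (π a) b = B a b := by
      rw [← fix_axis h.right, map_form h.right, fix_axis h.right]
    have hpa : B (π a) a = B a (π a) := symm h.amb _ _
    have hpp : B (π a) (π a) = 1 := by rw [map_form h.right, h.left.norm]
    simp only [axisOdd, map_add, map_smul, smul_eq_mul, hcp, hpb, hpa, hpp, h.form_p_sig,
      h.form_p_even, h.form_dist_four', h.dist_two_eq] at e1
    have ha := h.form_odd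
    have hp := h.form_p_odd
    generalize ho : sig mul b (τ b) = o at e1 ha hp ⊢
    simp only [sig, map_sub, map_smul, map_add, LinearMap.sub_apply, LinearMap.smul_apply,
      LinearMap.add_apply, smul_eq_mul, e1, ha, hp, dist3, dist4, evenOdd]
    ring

theorem Two.next_eq (h : Two mul B τ π a b) :
    π (τ b) = nextAxis a b (τ b) (π a) (τ (π a)) (sig mul a (π a)) (sig mul b (τ b))
      (B a b) (B a (π a)) :=
  h.relation

theorem Two.polys (h : Two mul B τ π a b) :
    polyOne (B a b) (B a (π a)) = 0 ∧ polyTwo (B a b) (B a (π a)) = 0 := by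
  constructor
  · refine h.gram.poly_one ?_
    rw [← h.next_eq, map_form h.right, map_form h.left, h.right.norm]
  · refine h.gram.poly_two h.table ?_ ?_
    · rw [h.axis_odd, h.dist_two_eq]
    · rw [← h.next_eq, ← assoc h.amb, ← map_mul h.right, ← map_mul h.left, idem h.right,
        h.form_dist_three]

end CfsgLib.Axial.Sakuma
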