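import Cfsg.Agent.Lib.Axial.Sakuma.Form

/-!
# Sakuma's theorem: two Majorana involutions generate a product of order at most six

The two polynomial relations have nine common zeros; at each of them the orbit of axes closes
up after at most six steps.
-/

set_option autoImplicit false
set_option maxHeartbeats 1000000

namespace CfsgLib.Axial.Sakuma

open Cfsg.Axial

/-- The nine solutions. -/
theorem solutions {l m : ℝ} (h1 : polyOne l m = 0) (h2 : polyTwo l m = 0) :
    m = 1 ∨ (l = 13 / 256 ∧ m = 13 / 256) ∨ (l = 1 / 64 ∧ m = 1 / 64) ∨ (l = 1 / 32 ∧ m = 0) ∨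
      (l = 1 / 64 ∧ m = 1 / 8) ∨ (l = 3 / 128 ∧ m = 3 / 128) ∨
      (l = 5 / 256 ∧ m = 13 / 256) := by
  simp only [polyOne] at h1
  simp only [polyTwo] at h2
  obtain ⟨u, hu⟩ : ∃ u, u = -3019898880 * l ^ 3 - 6936330240 * l ^ 2 + 73175040 * l + 561600 :=
    ⟨_, rfl⟩
  obtain ⟨w, hw⟩ : ∃ w, w = -773094113280 * l ^ 5 + 815372697600 * l ^ 4 - 31425822720 * l ^ 3 -
      1026293760 * l ^ 2 + 56586240 * l - 561600 := ⟨_, rfl⟩
  have hD : u * m + w = 0 := by
    subst hu hw
    linear_combination (128 : ℝ) * h2 - (1253376 * l + 10432) * h1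
  have hR : (-26635508121600 : ℝ) * (l * (l - 1) * (8 * l - 1) * (256 * l - 13) * (64 * l - 1) *
      (64 * l - 1) * (32 * l - 1) * (128 * l - 3) * (256 * l - 5)) = 0 := by
    have hR' : 128 * w ^ 2 - (40960 * l ^ 2 + 8896 * l - 167) * u * w +
        (2097152 * l ^ 4 - 2326528 * l ^ 3 + 184320 * l ^ 2 - 4800 * l + 39) * u ^ 2 = 0 := by
      linear_combination u ^ 2 * h1 -
        (128 * u * m + (40960 * l ^ 2 + 8896 * l - 167) * u - 128 * w) * hD
    subst hu hw
    linear_combination hR'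
  simp only [mul_eq_zero, sub_eq_zero] at hR
  rcases hR with hR | ((((((((hl | hl) | hl) | hl) | hl) | hl) | hl) | hl) | hl)
  · norm_num at hR
  · subst hl; left; subst hu hw; linarith
  · subst hl; left; subst hu hw; linarith
  · obtain rfl : l = 1 / 8 := by linarith
    left; subst hu hw; linarith
  · obtain rfl : l = 13 / 256 := by linarith
    right; left; subst hu hw; exact ⟨rfl, by linarith⟩
  · obtain rfl : l = 1 / 64 := by linarith
    have : (m - 1 / 64) * (m - 1 / 8) = 0 := by nlinarith [h1]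
    rcases mul_eq_zero.1 this with h | h
    · right; right; left; exact ⟨rfl, by linarith⟩
    · right; right; right; right; left; exact ⟨rfl, by linarith⟩
  · obtain rfl : l = 1 / 64 := by linarith
    have : (m - 1 / 64) * (m - 1 / 8) = 0 := by nlinarith [h1]
    rcases mul_eq_zero.1 this with h | h
    · right; right; left; exact ⟨rfl, by linarith⟩
    · right; right; right; right; left; exact ⟨rfl, by linarith⟩
  · obtain rfl : l = 1 / 32 := by linarith
    right; right; right; left; subst hu hw; exact ⟨rfl, by linarith⟩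
  · obtain rfl : l = 3 / 128 := by linarith
    right; right; right; right; right; left; subst hu hw; exact ⟨rfl, by linarith⟩
  · obtain rfl : l = 5 / 256 := by linarith
    right; right; right; right; right; right; subst hu hw; exact ⟨rfl, by linarith⟩

variable {V : Type*} [AddCommGroup V] [Module ℝ V] {mul : V →ₗ[ℝ] V →ₗ[ℝ] V}
  {B : LinearMap.BilinForm ℝ V} {τ π : V ≃ₗ[ℝ] V} {a b : V}

/-- An algebra automorphism carrying one axis to another intertwines the two involutions. -/
theorem intertwine {μ μ' : V ≃ₗ[ℝ] V} {u u' : V} (hu : Ax mul B μ u) (hu' : Ax mul B μ' u')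
    (g : V →ₗ[ℝ] V) (hg : ∀ x y, g (mul x y) = mul (g x) (g y)) (hgu : g u = u') (v : V) :
    g (μ v) = μ' (g v) := by
  refine ext_eigen hu (f := g.comp (μ : V →ₗ[ℝ] V)) (g := (μ' : V →ₗ[ℝ] V).comp g) ?_ ?_ ?_ ?_ v
  · simp [fix_axis hu, hgu, fix_axis hu']
  · intro w hw
    have hw' : mul u' (g w) = 0 := by rw [← hgu, ← hg, hw, map_zero]
    simp [fix_of_mem hu (c := 0) (by simp) (by simpa using hw),
      fix_of_mem hu' (c := 0) (by simp) (by simpa using hw')]
  · intro w hw
    have hw' : mul u' (g w) = (1 / 4 : ℝ) • g w := by rw [← hgu, ← hg, hw, map_smul]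
    simp [fix_of_mem hu (c := 1 / 4) (by simp) hw, fix_of_mem hu' (c := 1 / 4) (by simp) hw']
  · intro w hw
    have hw' : mul u' (g w) = (1 / 32 : ℝ) • g w := by rw [← hgu, ← hg, hw, map_smul]
    simp [neg_of_mem hu hw, neg_of_mem hu' hw']

theorem Two.form_dist_five (h : Two mul B τ π a b) (hl : B a b = 3 / 128)
    (hm : B a (π a) = 3 / 128) : B (τ (π a)) (π (τ b)) = 1 := by
  rw [h.next_eq]
  simp only [nextAxis, map_add, map_sub, map_smul, LinearMap.add_apply, LinearMap.sub_apply,
    LinearMap.smul_apply, smul_eq_mul,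
    symm h.amb b a, symm h.amb (τ b) a, symm h.amb (π a) b, symm h.amb (τ (π a)) (τ b),
    symm h.amb (π a) a, symm h.amb (τ (π a)) a, symm h.amb (τ b) b, symm h.amb (τ (π a)) b,
    symm h.amb (π a) (τ b), symm h.amb (τ (π a)) (π a), symm h.amb (sig mul a (π a)) a, symm h.amb (sig mul b (τ b)) a,
    symm h.amb (sig mul a (π a)) (π a), symm h.amb (sig mul b (τ b)) (π a), symm h.amb (sig mul a (π a)) (τ (π a)), symm h.amb (sig mul b (τ b)) (τ (π a)),
    symm h.amb (sig mul a (π a)) b, symm h.amb (sig mul b (τ b)) b, symm h.amb (sig mul a (π a)) (τ b), symm h.amb (sig mul b (τ b)) (τ b),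
    symm h.amb (sig mul b (τ b)) (sig mul a (π a)), h.gram.aa', h.gram.bb', h.gram.cc',
    h.gram.pp', h.gram.qq', h.gram.ab', h.gram.ac',
    h.gram.bp', h.gram.cq', h.gram.ap', h.gram.aq',
    h.gram.bc', h.gram.bq', h.gram.cp', h.gram.pq',
    h.gram.ae', h.gram.ao', h.gram.pe', h.gram.po',
    h.gram.qe', h.gram.qo', h.gram.be', h.gram.bo',
    h.gram.ce', h.gram.co', h.gram.ee', h.gram.oo',
    h.gram.eo']
  simp only [dist3, dist4, evenOdd, sigNorm, hl, hm]
  norm_num

theorem Two.form_dist_six (h : Two mul B τ π a b) (hl : B a b = 5 / 256)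
    (hm : B a (π a) = 13 / 256) : B (τ (π (τ b))) (π (τ b)) = 1 := by
  rw [h.next_eq]
  simp only [nextAxis, map_add, map_sub, map_smul, fix_axis h.left, invol h.left,
    fix_sig h.left, h.fix_sig_self, LinearMap.add_apply, LinearMap.sub_apply,
    LinearMap.smul_apply, smul_eq_mul,
    symm h.amb b a, symm h.amb (τ b) a, symm h.amb (π a) b, symm h.amb (τ (π a)) (τ b),
    symm h.amb (π a) a, symm h.amb (τ (π a)) a, symm h.amb (τ b) b, symm h.amb (τ (π a)) b,
    symm h.amb (π a) (τ b), symm h.amb (τ (π a)) (π a), symm h.amb (sig mul a (π a)) a, symm h.amb (sig mul b (τ b)) a,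
    symm h.amb (sig mul a (π a)) (π a), symm h.amb (sig mul b (τ b)) (π a), symm h.amb (sig mul a (π a)) (τ (π a)), symm h.amb (sig mul b (τ b)) (τ (π a)),
    symm h.amb (sig mul a (π a)) b, symm h.amb (sig mul b (τ b)) b, symm h.amb (sig mul a (π a)) (τ b), symm h.amb (sig mul b (τ b)) (τ b),
    symm h.amb (sig mul b (τ b)) (sig mul a (π a)), h.gram.aa', h.gram.bb', h.gram.cc',
    h.gram.pp', h.gram.qq', h.gram.ab', h.gram.ac',
    h.gram.bp', h.gram.cq', h.gram.ap', h.gram.aq',
    h.gram.bc', h.gram.bq', h.gram.cp', h.gram.pq',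
    h.gram.ae', h.gram.ao', h.gram.pe', h.gram.po',
    h.gram.qe', h.gram.qo', h.gram.be', h.gram.bo',
    h.gram.ce', h.gram.co', h.gram.ee', h.gram.oo',
    h.gram.eo']
  simp only [dist3, dist4, evenOdd, sigNorm, hl, hm]
  norm_num

theorem Two.norm_p (h : Two mul B τ π a b) : B (π a) (π a) = 1 := h.gram.pp'

theorem Two.norm_d (h : Two mul B τ π a b) : B (π (τ b)) (π (τ b)) = 1 := by
  rw [map_form h.right, map_form h.left, h.right.norm]

/-- **Sakuma's theorem**, six-transposition form. -/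
theorem Two.order_le_six (h : Two mul B τ π a b) :
    ∃ n : ℕ, 1 ≤ n ∧ n ≤ 6 ∧ (τ * π) ^ n = 1 := by
  obtain ⟨h1, h2⟩ := h.polys
  have hm1 : ∀ x y, τ (mul x y) = mul (τ x) (τ y) := map_mul h.left
  have hm2 : ∀ x y, π (mul x y) = mul (π x) (π y) := map_mul h.right
  have t2 : ∀ v, τ (τ v) = v := invol h.left
  have p2 : ∀ v, π (π v) = v := invol h.right
  rcases solutions h1 h2 with hm | ⟨hl, hm⟩ | ⟨hl, hm⟩ | ⟨hl, hm⟩ | ⟨hl, hm⟩ | ⟨hl, hm⟩ | ⟨hl, hm⟩
  · have he : π a = a := (eq_of_form h.amb h.left.norm h.norm_p hm).symm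
    have hc : ∀ v, π (τ v) = τ (π v) :=
      intertwine h.left h.left (π : V →ₗ[ℝ] V) (fun x y => hm2 x y) he
    exact ⟨2, by norm_num, by norm_num, LinearEquiv.ext fun v => by simp [pow_succ, hc, t2, p2]⟩
  all_goals
    first
    | (have he : π (τ b) = a := by
          refine (eq_of_form h.amb h.left.norm h.norm_d ?_).symm
          rw [h.form_dist_three, dist3, hl, hm]; norm_num
       have hc : ∀ v, π (τ (π v)) = τ (π (τ v)) :=
          intertwine h.right h.left ((π : V →ₗ[ℝ] V).comp (τ : V →ₗ[ℝ] V))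
            (fun x y => by simp [hm1, hm2]) (by simpa using he)
       exact ⟨3, by norm_num, by norm_num, LinearEquiv.ext fun v => by
         simp [pow_succ, hc, t2, p2]⟩)
    | (have he : τ (π a) = π a := by
          refine (eq_of_form h.amb h.norm_p h.gram.qq' ?_).symm
          rw [h.form_dist_four', dist4, hl, hm]; norm_num
       have hc : ∀ v, π (τ (π (τ v))) = τ (π (τ (π v))) :=
          intertwine h.left h.left
            ((π : V →ₗ[ℝ] V).comp ((τ : V →ₗ[ℝ] V).comp (π : V →ₗ[ℝ] V)))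
            (fun x y => by simp [hm1, hm2]) (by simp [he, p2])
       exact ⟨4, by norm_num, by norm_num, LinearEquiv.ext fun v => by
         simp [pow_succ, hc, t2, p2]⟩)
    | (have he : τ (π a) = π (τ b) :=
          eq_of_form h.amb h.gram.qq' h.norm_d (h.form_dist_five hl hm)
       have hc : ∀ v, τ (π (τ (π (τ v)))) = π (τ (π (τ (π v)))) :=
          intertwine h.left h.right
            ((τ : V →ₗ[ℝ] V).comp ((π : V →ₗ[ℝ] V).comp ((τ : V →ₗ[ℝ] V).comp (π : V →ₗ[ℝ] V))))
            (fun x y => by simp [hm1, hm2]) (by simp [he, t2, p2])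
       exact ⟨5, by norm_num, by norm_num, LinearEquiv.ext fun v => by
         simp [pow_succ, hc, t2, p2]⟩)
    | (have he : τ (π (τ b)) = π (τ b) := by
          refine eq_of_form h.amb ?_ h.norm_d (h.form_dist_six hl hm)
          rw [map_form h.left, h.norm_d]
       have hc : ∀ v, τ (π (τ (π (τ (π v))))) = π (τ (π (τ (π (τ v))))) :=
          intertwine h.right h.right
            ((τ : V →ₗ[ℝ] V).comp ((π : V →ₗ[ℝ] V).comp ((τ : V →ₗ[ℝ] V).comp
              ((π : V →ₗ[ℝ] V).comp (τ : V →ₗ[ℝ] V)))))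
            (fun x y => by simp [hm1, hm2]) (by simp [he, t2, p2])
       exact ⟨6, by norm_num, by norm_num, LinearEquiv.ext fun v => by
         simp [pow_succ, hc, t2, p2]⟩)

end CfsgLib.Axial.Sakuma
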