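import Cfsg.Agent.Lib.Axial.Sakuma.Basic
import Cfsg.Agent.Lib.Axial.Sakuma.Algebra

/-!
# Two Majorana axes

The fusion rules at the first axis determine `σ · σ`; symmetry in the two axes then gives a
linear relation between six consecutive axes of the orbit.
-/

set_option autoImplicit false

namespace CfsgLib.Axial.Sakuma

open Cfsg.Axial

variable {V : Type*} [AddCommGroup V] [Module ℝ V]

/-- Two axes in a Majorana ambient space. -/
structure Two (mul : V →ₗ[ℝ] V →ₗ[ℝ] V) (B : LinearMap.BilinForm ℝ V)
    (τ π : V ≃ₗ[ℝ] V) (a b : V) : Prop where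
  amb : IsMajoranaAmbient mul B
  left : Ax mul B τ a
  right : Ax mul B π b

variable {mul : V →ₗ[ℝ] V →ₗ[ℝ] V} {B : LinearMap.BilinForm ℝ V} {τ π : V ≃ₗ[ℝ] V} {a b : V}

theorem Two.swap (h : Two mul B τ π a b) : Two mul B π τ b a := ⟨h.amb, h.right, h.left⟩

theorem mul_eq_sig (u v : V) : mul u v = sig mul u v + (1 / 32 : ℝ) • (u + v) := by
  simp [sig]

theorem Two.form_comm (h : Two mul B τ π a b) : B b a = B a b := symm h.amb b a

theorem Two.fix_sig_self (h : Two mul B τ π a b) :
    τ (sig mul b (τ b)) = sig mul b (τ b) := by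
  simp only [sig, map_sub, map_smul, map_add, map_mul h.left, invol h.left]
  rw [comm h.amb, add_comm b]

theorem Two.table (h : Two mul B τ π a b) :
    Table mul a b (τ b) (π a) (τ (π a)) (sig mul a b) (sig mul a (π a)) (sig mul b (τ b))
      (B a b) (B a (π a)) where
  comm := comm h.amb
  aa := idem h.left
  bb := idem h.right
  cc := by rw [← map_mul h.left, idem h.right]
  ab := mul_eq_sig a b
  ac := by
    conv_lhs => rw [← fix_axis h.left, ← map_mul h.left, mul_eq_sig]
    simp only [map_add, map_smul, fix_sig h.left, fix_axis h.left]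
  bc := mul_eq_sig b (τ b)
  ap := mul_eq_sig a (π a)
  aq := by
    conv_lhs => rw [← fix_axis h.left, ← map_mul h.left, mul_eq_sig]
    simp only [map_add, map_smul, fix_sig h.left, fix_axis h.left]
  as' := mul_sig h.amb h.left b
  bs := by
    have h1 := mul_sig h.amb h.right a
    rw [sig_comm h.amb b a, h.form_comm] at h1
    exact h1
  cs := by
    have h1 := mul_sig h.amb h.right a
    rw [sig_comm h.amb b a, h.form_comm] at h1
    have h2 := congrArg τ h1
    simp only [map_mul h.left, map_add, map_smul, fix_sig h.left, fix_axis h.left] at h2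
    exact h2
  ae := mul_sig h.amb h.left (π a)

/-- The fixed vector `(b + τ b) / 2`. -/
noncomputable def avg (τ : V ≃ₗ[ℝ] V) (b : V) : V := (1 / 2 : ℝ) • (b + τ b)

theorem Two.fix_avg (h : Two mul B τ π a b) : τ (avg τ b) = avg τ b := by
  simp [avg, invol h.left, add_comm]

theorem Two.form_avg (h : Two mul B τ π a b) : B a (avg τ b) = B a b := by
  simp only [avg, map_smul, map_add, smul_eq_mul, form_fix h.amb h.left]
  ring

theorem Two.quarter_eq (h : Two mul B τ π a b) :
    (4 : ℝ) • (mul a (avg τ b) - B a (avg τ b) • a) =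
      quarterPart a b (τ b) (sig mul a b) (B a b) := by
  rw [h.form_avg]
  simp only [avg, quarterPart, map_smul, map_add, h.table.ab, h.table.ac]
  module

theorem Two.quarter_mem (h : Two mul B τ π a b) :
    mul a (quarterPart a b (τ b) (sig mul a b) (B a b)) =
      (1 / 4 : ℝ) • quarterPart a b (τ b) (sig mul a b) (B a b) := by
  rw [← h.quarter_eq]
  exact mul_part_quarter h.amb h.left h.fix_avg

theorem Two.zero_mem (h : Two mul B τ π a b) :
    mul a (restPart a b (τ b) (B a b) - quarterPart a b (τ b) (sig mul a b) (B a b)) = 0 := by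
  have h1 := mul_part_zero h.amb h.left h.fix_avg
  rw [h.quarter_eq, h.form_avg] at h1
  simpa [restPart, avg] using h1

theorem Two.form_quarter (h : Two mul B τ π a b) :
    B (quarterPart a b (τ b) (sig mul a b) (B a b)) (quarterPart a b (τ b) (sig mul a b) (B a b))
      = quarterNorm (B a b) (B b (τ b)) := by
  rw [← h.quarter_eq]
  set x := avg τ b with hx
  have hxa : B a x = B a b := h.form_avg
  have h1 : B (mul a x) a = B a b := by
    rw [assoc' h.amb, symm h.amb, idem h.left, hxa]
  have h2 : B (mul a x) (mul a x) = B x (mul a x) / 4 + 3 / 4 * B a b ^ 2 := by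
    rw [assoc' h.amb, mul_mul h.amb h.left x, h.fix_avg]
    simp only [map_sub, map_add, map_smul, sub_self, smul_zero, map_zero, smul_eq_mul,
      symm h.amb x a, hxa]
    ring
  have h3 : B x (mul a x) = B a b + (B b (τ b) - 1) / 64 := by
    have e : mul a (τ b) = mul a b - (1 / 32 : ℝ) • (b - τ b) := by
      rw [← mul_sub h.left b, map_sub]
      abel
    have e1 : B b (mul a b) = B a b := by
      rw [comm h.amb a b, assoc h.amb, idem h.right, h.form_comm]
    have e2 : B (τ b) (mul a (τ b)) = B a b := by
      rw [comm h.amb a (τ b), assoc h.amb, ← map_mul h.left, idem h.right, symm h.amb,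
        form_fix h.amb h.left]
    have e3 : B (τ b) (τ b) = 1 := by rw [map_form h.left]; exact h.right.norm
    simp only [e, map_sub, map_smul, smul_eq_mul, e3, symm h.amb (τ b) b] at e2
    simp only [hx, avg, map_smul, map_add, e, map_sub, smul_eq_mul, LinearMap.add_apply,
      LinearMap.smul_apply, e1, e3, h.right.norm, symm h.amb (τ b) b]
    linear_combination (1 / 2 : ℝ) * e2
  simp only [map_sub, map_smul, LinearMap.sub_apply, LinearMap.smul_apply, smul_eq_mul, hxa, h1,
    symm h.amb a (mul a x), h.left.norm, h2, h3, quarterNorm]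
  ring

theorem Two.eq_products (h : Two mul B τ π a b) :
    mul a (mul (restPart a b (τ b) (B a b)) (restPart a b (τ b) (B a b))) =
      (2 : ℝ) • mul a (mul (quarterPart a b (τ b) (sig mul a b) (B a b))
        (restPart a b (τ b) (B a b))) - (quarterNorm (B a b) (B b (τ b)) / 4) • a ∧
    mul (quarterPart a b (τ b) (sig mul a b) (B a b))
        (quarterPart a b (τ b) (sig mul a b) (B a b)) =
      mul (quarterPart a b (τ b) (sig mul a b) (B a b)) (restPart a b (τ b) (B a b)) -
        ((4 : ℝ) • mul a (mul (quarterPart a b (τ b) (sig mul a b) (B a b))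
          (restPart a b (τ b) (B a b))) - quarterNorm (B a b) (B b (τ b)) • a) ∧
    mul a (mul (quarterPart a b (τ b) (sig mul a b) (B a b))
        (quarterPart a b (τ b) (sig mul a b) (B a b))) =
      (quarterNorm (B a b) (B b (τ b)) / 4) • a := by
  have hu4 := h.quarter_mem
  have hu0 := h.zero_mem
  have hn := h.form_quarter
  set u4 := quarterPart a b (τ b) (sig mul a b) (B a b)
  set z := restPart a b (τ b) (B a b)
  set N := quarterNorm (B a b) (B b (τ b))
  set u0 := z - u4 with hu0def
  have hz : z = u0 + u4 := by rw [hu0def]; abel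
  have e00 : mul a (mul u0 u0) = 0 := law_zero_zero h.left hu0 hu0
  have e04 : mul a (mul u0 u4) = (1 / 4 : ℝ) • mul u0 u4 := law_quarter_zero h.left hu0 hu4
  have e44 : mul a (mul u4 u4) = (N / 4) • a := by
    rw [law_quarter_quarter h.amb h.left hu4 hu4, hn]
    congr 1
    ring
  refine ⟨?_, ?_, e44⟩
  · simp only [hz, map_add, LinearMap.add_apply, comm h.amb u4 u0, e00, e04, e44]
    module
  · simp only [hz, map_add, comm h.amb u4 u0, e04, e44]
    module

theorem Two.axis_odd (h : Two mul B τ π a b) :
    mul a (sig mul b (τ b)) =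
      axisOdd a b (τ b) (π a) (τ (π a)) (sig mul a b) (sig mul a (π a)) (B a b) (B b (τ b)) :=
  h.table.axis_odd h.eq_products.1

theorem Two.sig_square (h : Two mul B τ π a b) :
    mul (sig mul a b) (sig mul a b) =
      sigSquare a b (τ b) (π a) (τ (π a)) (sig mul a b) (sig mul a (π a)) (sig mul b (τ b))
        (B a b) (B b (τ b)) :=
  h.table.sig_square h.axis_odd h.eq_products.2.1

theorem Two.dist_two_eq (h : Two mul B τ π a b) : B b (τ b) = B a (π a) := by
  have h1 := congrArg (B a) (h.table.scalar_eq h.axis_odd h.sig_square h.eq_products.2.2)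
  simp only [map_smul, smul_eq_mul, h.left.norm, map_zero] at h1
  linarith

/-- The linear relation between six consecutive axes. -/
theorem Two.relation (h : Two mul B τ π a b) :
    π (τ b) = τ (π a) + (256 * B a b - 6) • (τ b - π a) +
      (32768 / 7 * B a b ^ 2 - 2304 / 7 * B a b + 128 / 7 * B a (π a) + 33 / 7) • (a - b) -
        (32 : ℝ) • (sig mul a (π a) - sig mul b (τ b)) := by
  have h1 := h.sig_square
  have h2 := h.swap.sig_square
  rw [sig_comm h.amb b a, h1, h.form_comm, h.dist_two_eq] at h2
  simp only [sigSquare] at h2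
  linear_combination (norm := module) (-(196608 / 49) : ℝ) • h2

end CfsgLib.Axial.Sakuma
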